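import Mathlib

set_option autoImplicit false

/-!
# Basic tools for the Dubreil bound: irrelevant ideal, homogeneous ideals,
independence modulo `m * I`, graded Nakayama.
-/

namespace Groth.Agent.Helper19.Dubreil

open MvPolynomial

section Ring
variable {σ : Type*} {F : Type*} [CommRing F]

/-- The irrelevant ideal `(X_t)`. -/
noncomputable def irrel (σ F : Type*) [CommRing F] : Ideal (MvPolynomial σ F) :=
  Ideal.span (Set.range (X : σ → MvPolynomial σ F))

theorem X_mem_irrel (t : σ) : (X t : MvPolynomial σ F) ∈ irrel σ F :=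
  Ideal.subset_span ⟨t, rfl⟩

theorem hc_succ_X_mul (t : σ) (h : MvPolynomial σ F) (j : ℕ) :
    homogeneousComponent (j + 1) (X t * h) = X t * homogeneousComponent j h := by
  classical
  ext d
  rw [coeff_homogeneousComponent, coeff_X_mul', coeff_X_mul', coeff_homogeneousComponent]
  by_cases ht : t ∈ d.support
  · have hle : Finsupp.single t 1 ≤ d := by
      rw [Finsupp.single_le_iff]
      exact Nat.one_le_iff_ne_zero.mpr (Finsupp.mem_support_iff.mp ht)
    have hd : Finsupp.single t 1 + (d - Finsupp.single t 1) = d := add_tsub_cancel_of_le hle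
    have hdeg : d.degree = (d - Finsupp.single t 1).degree + 1 := by
      conv_lhs => rw [← hd]
      rw [map_add, Finsupp.degree_single]; omega
    rw [if_pos ht, if_pos ht]
    by_cases h1 : (d - Finsupp.single t 1).degree = j
    · rw [if_pos (by omega), if_pos h1]
    · rw [if_neg (by omega), if_neg h1]
  · rw [if_neg ht, if_neg ht]; simp

theorem hc_zero_X_mul (t : σ) (h : MvPolynomial σ F) :
    homogeneousComponent 0 (X t * h) = 0 := by
  classical
  rw [homogeneousComponent_zero, coeff_X_mul', if_neg (by simp), map_zero]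

theorem mem_irrel_mul_iff [Fintype σ] (I : Ideal (MvPolynomial σ F)) (w : MvPolynomial σ F) :
    w ∈ irrel σ F * I ↔
      ∃ h : σ → MvPolynomial σ F, (∀ t, h t ∈ I) ∧ w = ∑ t, X t * h t := by
  constructor
  · intro hw
    refine Submodule.mul_induction_on hw ?_ ?_
    · intro a ha b hb
      obtain ⟨c, hc⟩ := Ideal.mem_span_range_iff_exists_fun.mp ha
      refine ⟨fun t => c t * b, fun t => I.mul_mem_left _ hb, ?_⟩
      rw [← hc, Finset.sum_mul]
      refine Finset.sum_congr rfl fun t _ => ?_
      ring
    · rintro x y ⟨h1, h1I, rfl⟩ ⟨h2, h2I, rfl⟩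
      refine ⟨fun t => h1 t + h2 t, fun t => I.add_mem (h1I t) (h2I t), ?_⟩
      rw [← Finset.sum_add_distrib]
      refine Finset.sum_congr rfl fun t _ => ?_
      ring
  · rintro ⟨h, hI, rfl⟩
    exact Ideal.sum_mem _ fun t _ => Ideal.mul_mem_mul (X_mem_irrel t) (hI t)

/-- A homogeneous ideal: closed under taking homogeneous components. -/
def IsHomIdeal (I : Ideal (MvPolynomial σ F)) : Prop :=
  ∀ g ∈ I, ∀ j, homogeneousComponent j g ∈ I

/-- Independence of a finite family modulo `m * I`. -/
def IndepMod (I : Ideal (MvPolynomial σ F)) {M : ℕ} (e : Fin M → MvPolynomial σ F) : Prop :=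
  ∀ c : Fin M → F, (∑ i, c i • e i) ∈ irrel σ F * I → ∀ i, c i = 0

end Ring

section Field
variable {σ : Type*} [Fintype σ] {F : Type*} [Field F]

/-- Graded Nakayama: if every independent (mod `m I`) finite family of homogeneous elements of the
homogeneous ideal `I` has at most `n` members, then `I` is generated by at most `n` elements. -/
theorem exists_generators (I : Ideal (MvPolynomial σ F)) (hI : IsHomIdeal I) (n : ℕ)
    (hb : ∀ (M : ℕ) (e : Fin M → MvPolynomial σ F), (∀ i, e i ∈ I) →
      (∀ i, ∃ j, (e i).IsHomogeneous j) → IndepMod I e → M ≤ n) :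
    ∃ (M : ℕ) (e : Fin M → MvPolynomial σ F), M ≤ n ∧ Ideal.span (Set.range e) = I := by
  classical
  let P : ℕ → Prop := fun M => ∃ e : Fin M → MvPolynomial σ F, (∀ i, e i ∈ I) ∧
    (∀ i, ∃ j, (e i).IsHomogeneous j) ∧ IndepMod I e
  have hP0 : P 0 := ⟨fun i => i.elim0, fun i => i.elim0, fun i => i.elim0, fun c _ i => i.elim0⟩
  have hPle : ∀ M, P M → M ≤ n := fun M ⟨e, h1, h2, h3⟩ => hb M e h1 h2 h3
  have hspec : P (Nat.findGreatest P n) := Nat.findGreatest_spec (Nat.zero_le n) hP0
  obtain ⟨e, he1, he2, he3⟩ := hspec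
  have hnot : ¬ P (Nat.findGreatest P n + 1) := by
    intro h
    have h1 := hPle _ h
    have h2 := Nat.le_findGreatest h1 h
    omega
  generalize Nat.findGreatest P n = M at e he1 he2 he3 hnot
  have hMn : M ≤ n := hPle M ⟨e, he1, he2, he3⟩
  refine ⟨M, e, hMn, ?_⟩
  apply le_antisymm (Ideal.span_le.mpr (by rintro _ ⟨i, rfl⟩; exact he1 i))
  have key : ∀ j, ∀ g ∈ I, g.IsHomogeneous j → g ∈ Ideal.span (Set.range e) := by
    intro j
    induction j using Nat.strong_induction_on with
    | _ j ih =>
    intro g hg hgj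
    let e' : Fin (M + 1) → MvPolynomial σ F := Fin.snoc (α := fun _ => MvPolynomial σ F) e g
    have he'c : ∀ i : Fin M, e' i.castSucc = e i := fun i => by simp [e']
    have he'l : e' (Fin.last M) = g := by simp [e']
    have hdep : ¬ IndepMod I e' := by
      intro hind
      refine hnot ⟨e', ?_, ?_, hind⟩
      · intro i
        refine Fin.lastCases ?_ (fun i => ?_) i
        · rw [he'l]; exact hg
        · rw [he'c]; exact he1 i
      · intro i
        refine Fin.lastCases ?_ (fun i => ?_) i
        · rw [he'l]; exact ⟨j, hgj⟩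
        · rw [he'c]; exact he2 i
    unfold IndepMod at hdep
    push Not at hdep
    obtain ⟨c, hc, i0, hi0⟩ := hdep
    rw [Fin.sum_univ_castSucc] at hc
    simp only [he'c, he'l] at hc
    have hcl : c (Fin.last M) ≠ 0 := by
      intro h0
      rw [h0, zero_smul, add_zero] at hc
      have hz := he3 (fun i => c i.castSucc) hc
      refine hi0 ?_
      refine Fin.lastCases h0 (fun i => hz i) i0
    obtain ⟨h, hhI, hw⟩ := (mem_irrel_mul_iff I _).mp hc
    -- apply the homogeneous component of degree j
    have hcomp : c (Fin.last M) • g =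
        homogeneousComponent j (∑ t, X t * h t)
          - ∑ i, c i.castSucc • homogeneousComponent j (e i) := by
      rw [← hw, map_add, map_sum]
      simp only [map_smul]
      rw [homogeneousComponent_eq_self hgj]
      abel
    have hsum1 : homogeneousComponent j (∑ t, X t * h t) ∈ Ideal.span (Set.range e) := by
      rw [map_sum]
      refine Ideal.sum_mem _ fun t _ => ?_
      cases j with
      | zero => rw [hc_zero_X_mul]; exact Ideal.zero_mem _
      | succ j' =>
        rw [hc_succ_X_mul]
        exact Ideal.mul_mem_left _ _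
          (ih j' (Nat.lt_succ_self j') _ (hI _ (hhI t) j') (homogeneousComponent_isHomogeneous j' _))
    have hsum2 : ∑ i, c i.castSucc • homogeneousComponent j (e i) ∈ Ideal.span (Set.range e) := by
      refine Ideal.sum_mem _ fun i _ => ?_
      obtain ⟨ji, hji⟩ := he2 i
      rw [homogeneousComponent_of_mem hji]
      split_ifs
      · rw [smul_eq_C_mul]
        exact Ideal.mul_mem_left _ _ (Ideal.subset_span ⟨i, rfl⟩)
      · rw [smul_zero]; exact Ideal.zero_mem _
    have hmem : c (Fin.last M) • g ∈ Ideal.span (Set.range e) := by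
      rw [hcomp]; exact Ideal.sub_mem _ hsum1 hsum2
    have : g = C (c (Fin.last M))⁻¹ * (c (Fin.last M) • g) := by
      rw [smul_eq_C_mul, ← mul_assoc, ← C_mul, inv_mul_cancel₀ hcl, C_1, one_mul]
    rw [this]
    exact Ideal.mul_mem_left _ _ hmem
  intro g hg
  rw [← sum_homogeneousComponent g]
  exact Ideal.sum_mem _ fun j _ =>
    key j _ (hI g hg j) (homogeneousComponent_isHomogeneous j g)

end Field

end Groth.Agent.Helper19.Dubreil
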