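import Groth.Agent.Lib.Helper19.Dubreil.Basic

set_option autoImplicit false

/-!
# Vanishing ideals of point sets, saturation by a linear form, and transfer of independence
modulo `m I` along a field extension.
-/

namespace Groth.Agent.Helper19.Dubreil

open MvPolynomial

section Van
variable {σ : Type*} {F : Type*} [CommRing F]

theorem van_X_mul (Z : Set (σ → F)) (t : σ) (x : MvPolynomial σ F)
    (hx : ∀ p ∈ Z, ∀ j, eval p (homogeneousComponent j x) = 0) :
    ∀ p ∈ Z, ∀ j, eval p (homogeneousComponent j (X t * x)) = 0 := by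
  intro p hp j
  cases j with
  | zero => rw [hc_zero_X_mul, map_zero]
  | succ j => rw [hc_succ_X_mul, map_mul, hx p hp j, mul_zero]

theorem van_mul (Z : Set (σ → F)) (c : MvPolynomial σ F) :
    ∀ x : MvPolynomial σ F, (∀ p ∈ Z, ∀ j, eval p (homogeneousComponent j x) = 0) →
    ∀ p ∈ Z, ∀ j, eval p (homogeneousComponent j (c * x)) = 0 := by
  induction c using MvPolynomial.induction_on with
  | C a =>
    intro x hx p hp j
    rw [homogeneousComponent_C_mul, map_mul, hx p hp j, mul_zero]
  | add f g hf hg =>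
    intro x hx p hp j
    rw [add_mul, map_add, map_add, hf x hx p hp j, hg x hx p hp j, add_zero]
  | mul_X f t hf =>
    intro x hx
    rw [mul_assoc]
    exact hf _ (van_X_mul Z t x hx)

/-- The homogeneous vanishing ideal of a set of vectors. -/
noncomputable def vanIdeal (Z : Set (σ → F)) : Ideal (MvPolynomial σ F) where
  carrier := {h | ∀ p ∈ Z, ∀ j, eval p (homogeneousComponent j h) = 0}
  add_mem' := by
    intro a b ha hb p hp j
    rw [map_add, map_add, ha p hp j, hb p hp j, add_zero]
  zero_mem' := by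
    intro p _ j
    simp
  smul_mem' := by
    intro c x hx
    exact van_mul Z c x hx

theorem mem_vanIdeal (Z : Set (σ → F)) (h : MvPolynomial σ F) :
    h ∈ vanIdeal Z ↔ ∀ p ∈ Z, ∀ j, eval p (homogeneousComponent j h) = 0 := Iff.rfl

theorem vanIdeal_isHom (Z : Set (σ → F)) : IsHomIdeal (vanIdeal Z) := by
  intro g hg j p hp j'
  rw [homogeneousComponent_of_mem (homogeneousComponent_mem j g)]
  split_ifs
  · exact hg p hp j
  · simp

theorem vanIdeal_sat [Fintype σ] [IsDomain F] (Z : Set (σ → F)) (a : σ → F)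
    (ha : ∀ p ∈ Z, ∑ t, a t * p t ≠ 0) (g : MvPolynomial σ F)
    (h : (∑ t, C (a t) * X t) * g ∈ vanIdeal Z) : g ∈ vanIdeal Z := by
  intro p hp j
  have h1 := h p hp (j + 1)
  rw [Finset.sum_mul, map_sum, map_sum] at h1
  have h2 : ∀ t, eval p (homogeneousComponent (j + 1) (C (a t) * X t * g)) =
      a t * p t * eval p (homogeneousComponent j g) := by
    intro t
    rw [mul_assoc, homogeneousComponent_C_mul, hc_succ_X_mul, map_mul, map_mul, eval_C, eval_X,
      mul_assoc]
  simp only [h2] at h1
  rw [← Finset.sum_mul] at h1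
  exact (mul_eq_zero.mp h1).resolve_left (ha p hp)

end Van

section CMap
variable {σ : Type*} {k K : Type*} [Field k] [Field K] [Algebra k K]

/-- Apply a `k`-linear functional `K → k` to all coefficients. -/
noncomputable def cmap (φ : K →ₗ[k] k) (h : MvPolynomial σ K) : MvPolynomial σ k :=
  ∑ d ∈ h.support, monomial d (φ (coeff d h))

theorem coeff_cmap (φ : K →ₗ[k] k) (h : MvPolynomial σ K) (d : σ →₀ ℕ) :
    coeff d (cmap φ h) = φ (coeff d h) := by
  classical
  unfold cmap
  rw [coeff_sum]
  simp only [coeff_monomial]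
  rw [Finset.sum_ite_eq']
  split_ifs with hd
  · rfl
  · rw [notMem_support_iff.mp hd, map_zero]

theorem cmap_add (φ : K →ₗ[k] k) (a b : MvPolynomial σ K) :
    cmap φ (a + b) = cmap φ a + cmap φ b := by
  ext d
  rw [coeff_add, coeff_cmap, coeff_cmap, coeff_cmap, coeff_add, map_add]

theorem cmap_monomial (φ : K →ₗ[k] k) (d : σ →₀ ℕ) (c : K) :
    cmap φ (monomial d c) = monomial d (φ c) := by
  classical
  ext d'
  rw [coeff_cmap, coeff_monomial, coeff_monomial]
  split_ifs
  · rfl
  · exact map_zero φ

theorem hc_cmap (φ : K →ₗ[k] k) (h : MvPolynomial σ K) (j : ℕ) :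
    homogeneousComponent j (cmap φ h) = cmap φ (homogeneousComponent j h) := by
  ext d
  rw [coeff_homogeneousComponent, coeff_cmap, coeff_cmap, coeff_homogeneousComponent]
  split_ifs
  · rfl
  · exact (map_zero φ).symm

theorem eval_cmap (φ : K →ₗ[k] k) (p : σ → k) (g : MvPolynomial σ K) :
    eval p (cmap φ g) = φ (eval (fun i => algebraMap k K (p i)) g) := by
  induction g using MvPolynomial.induction_on' with
  | monomial d c =>
    rw [cmap_monomial, eval_monomial, eval_monomial]
    have h1 : (d.prod fun n e => (algebraMap k K (p n)) ^ e) =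
        algebraMap k K (d.prod fun n e => p n ^ e) := by
      rw [map_finsuppProd]
      simp only [map_pow]
    rw [h1, mul_comm c, ← Algebra.smul_def, map_smul, smul_eq_mul, mul_comm]
  | add a b ha hb =>
    rw [cmap_add, map_add, ha, hb, map_add, map_add]

theorem hc_map (j : ℕ) (e : MvPolynomial σ k) :
    homogeneousComponent j (map (algebraMap k K) e) =
      map (algebraMap k K) (homogeneousComponent j e) := by
  ext d
  rw [coeff_homogeneousComponent, coeff_map, coeff_map, coeff_homogeneousComponent]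
  split_ifs
  · rfl
  · exact (map_zero _).symm

theorem eval_map_alg (p : σ → k) (g : MvPolynomial σ k) :
    eval (fun i => algebraMap k K (p i)) (map (algebraMap k K) g) =
      algebraMap k K (eval p g) := by
  rw [eval_map]
  have := eval₂_comp_left (algebraMap k K) (RingHom.id k) p g
  rw [RingHom.comp_id] at this
  exact this.symm

/-- Base change of a point set. -/
def bcSet (K : Type*) [Field K] [Algebra k K] (Z : Set (σ → k)) : Set (σ → K) :=
  (fun p : σ → k => fun i => algebraMap k K (p i)) '' Z

theorem map_mem_vanIdeal (Z : Set (σ → k)) (e : MvPolynomial σ k) (he : e ∈ vanIdeal Z) :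
    map (algebraMap k K) e ∈ vanIdeal (bcSet K Z) := by
  rintro _ ⟨p, hp, rfl⟩ j
  rw [hc_map, eval_map_alg, he p hp j, map_zero]

theorem indep_transfer [Fintype σ] (Z : Set (σ → k)) {M : ℕ} (e : Fin M → MvPolynomial σ k)
    (he : IndepMod (vanIdeal Z) e) :
    IndepMod (vanIdeal (bcSet K Z)) (fun i => map (algebraMap k K) (e i)) := by
  classical
  intro c hc i
  rw [← Module.forall_dual_apply_eq_zero_iff k (c i)]
  intro φ
  obtain ⟨h, hh, hw⟩ := (mem_irrel_mul_iff _ _).mp hc
  have h1 : cmap φ (∑ i, c i • map (algebraMap k K) (e i)) = ∑ i, φ (c i) • e i := by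
    ext d
    rw [coeff_cmap, coeff_sum, coeff_sum, map_sum]
    refine Finset.sum_congr rfl fun i _ => ?_
    rw [coeff_smul, coeff_smul, coeff_map, smul_eq_mul, smul_eq_mul, mul_comm,
      ← Algebra.smul_def, map_smul, smul_eq_mul, mul_comm]
  have h2 : cmap φ (∑ t, X t * h t) = ∑ t, X t * cmap φ (h t) := by
    ext d
    rw [coeff_cmap, coeff_sum, coeff_sum, map_sum]
    refine Finset.sum_congr rfl fun t _ => ?_
    rw [coeff_X_mul', coeff_X_mul', coeff_cmap]
    split_ifs
    · rfl
    · exact map_zero φ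
  have h3 : ∀ t, cmap φ (h t) ∈ vanIdeal Z := by
    intro t p hp j
    rw [hc_cmap, eval_cmap, hh t _ ⟨p, hp, rfl⟩ j, map_zero]
  have h4 : ∑ i, φ (c i) • e i ∈ irrel σ k * vanIdeal Z := by
    rw [← h1, hw, h2]
    exact (mem_irrel_mul_iff _ _).mpr ⟨_, h3, rfl⟩
  exact he _ h4 i

end CMap

end Groth.Agent.Helper19.Dubreil
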