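import Groth.Agent.Lib.Helper19.Dubreil.TwoVar
import Groth.Agent.Lib.Helper19.Dubreil.Transfer

set_option autoImplicit false

/-!
# Reduction from three variables to two by slicing with a linear form which vanishes at no
point of the set.
-/

namespace Groth.Agent.Helper19.Dubreil

open MvPolynomial

section Slice
variable {K : Type*} [Field K]

/-- Substitution `x₂ ↦ α x₀ + β x₁`. -/
noncomputable def rho (α β : K) : MvPolynomial (Fin 3) K →ₐ[K] MvPolynomial (Fin 2) K :=
  aeval ![X 0, X 1, C α * X 0 + C β * X 1]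

/-- Inclusion `K[x₀,x₁] → K[x₀,x₁,x₂]`. -/
noncomputable def iota : MvPolynomial (Fin 2) K →ₐ[K] MvPolynomial (Fin 3) K :=
  rename (Fin.castSucc : Fin 2 → Fin 3)

/-- The linear form `x₂ - α x₀ - β x₁`. -/
noncomputable def ell (α β : K) : MvPolynomial (Fin 3) K :=
  X 2 - (C α * X 0 + C β * X 1)

theorem rho_X0 (α β : K) : rho α β (X 0) = X 0 := by simp [rho]
theorem rho_X1 (α β : K) : rho α β (X 1) = X 1 := by simp [rho]
theorem rho_X2 (α β : K) : rho α β (X 2) = C α * X 0 + C β * X 1 := by simp [rho]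

theorem iota_X0 : (iota (X 0) : MvPolynomial (Fin 3) K) = X 0 := by simp [iota]
theorem iota_X1 : (iota (X 1) : MvPolynomial (Fin 3) K) = X 1 := by
  simp only [iota, rename_X]; rfl

theorem rho_iota (α β : K) (g : MvPolynomial (Fin 2) K) : rho α β (iota g) = g := by
  have h : (rho α β).comp iota = AlgHom.id K _ := by
    apply MvPolynomial.algHom_ext
    intro i
    fin_cases i
    · simp only [AlgHom.comp_apply, AlgHom.id_apply]
      exact (congrArg _ iota_X0).trans (rho_X0 α β)
    · simp only [AlgHom.comp_apply, AlgHom.id_apply]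
      exact (congrArg _ iota_X1).trans (rho_X1 α β)
  exact DFunLike.congr_fun h g

theorem rho_surjective (α β : K) : Function.Surjective (rho α β) :=
  fun g => ⟨iota g, rho_iota α β g⟩

theorem sub_iota_rho_mem (α β : K) (g : MvPolynomial (Fin 3) K) :
    g - iota (rho α β g) ∈ Ideal.span {ell α β} := by
  have h : (Ideal.Quotient.mkₐ K (Ideal.span {ell α β})).comp (iota.comp (rho α β)) =
      Ideal.Quotient.mkₐ K (Ideal.span {ell α β}) := by
    apply MvPolynomial.algHom_ext
    intro i
    fin_cases i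
    · simp only [AlgHom.comp_apply]
      exact congrArg _ ((congrArg _ (rho_X0 α β)).trans iota_X0)
    · simp only [AlgHom.comp_apply]
      exact congrArg _ ((congrArg _ (rho_X1 α β)).trans iota_X1)
    · simp only [AlgHom.comp_apply]
      have h2 : iota (rho α β (X 2)) = (C α * X 0 + C β * X 1 : MvPolynomial (Fin 3) K) := by
        show iota (rho α β (X 2)) = _
        rw [rho_X2, map_add, map_mul, map_mul, iota_X0, iota_X1]
        simp [iota]
      show (Ideal.Quotient.mkₐ K _) (iota (rho α β (X 2))) = (Ideal.Quotient.mkₐ K _) (X 2)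
      rw [h2, Ideal.Quotient.mkₐ_eq_mk, eq_comm, Ideal.Quotient.eq]
      exact Ideal.subset_span rfl
  have h1 := DFunLike.congr_fun h g
  simp only [AlgHom.comp_apply, Ideal.Quotient.mkₐ_eq_mk] at h1
  rw [eq_comm, Ideal.Quotient.eq] at h1
  exact h1

theorem rho_isHomogeneous (α β : K) {g : MvPolynomial (Fin 3) K} {j : ℕ}
    (hg : g.IsHomogeneous j) : (rho α β g).IsHomogeneous j := by
  have := hg.aeval (S := K) (n := 1)
    (![X 0, X 1, C α * X 0 + C β * X 1] : Fin 3 → MvPolynomial (Fin 2) K) (by
    intro i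
    fin_cases i
    · exact isHomogeneous_X K _
    · exact isHomogeneous_X K _
    · exact ((isHomogeneous_X K _).C_mul α).add ((isHomogeneous_X K _).C_mul β))
  rw [one_mul] at this
  unfold rho
  exact this

theorem hc_rho (α β : K) (h : MvPolynomial (Fin 3) K) (j : ℕ) :
    homogeneousComponent j (rho α β h) = rho α β (homogeneousComponent j h) := by
  conv_lhs => rw [← sum_homogeneousComponent h, map_sum, map_sum]
  have : ∀ i ∈ Finset.range (h.totalDegree + 1),
      homogeneousComponent j (rho α β (homogeneousComponent i h)) =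
        if j = i then rho α β (homogeneousComponent i h) else 0 := fun i _ =>
    homogeneousComponent_of_mem (rho_isHomogeneous α β (homogeneousComponent_isHomogeneous i h))
  rw [Finset.sum_congr rfl this, Finset.sum_ite_eq]
  split_ifs with hj
  · rfl
  · rw [Finset.mem_range, not_lt] at hj
    rw [homogeneousComponent_eq_zero _ _ (by omega), map_zero]

theorem ell_eq (α β : K) :
    ell α β = ∑ t, C (![-α, -β, 1] t) * (X t : MvPolynomial (Fin 3) K) := by
  rw [Fin.sum_univ_three]
  simp [ell]
  ring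

/-- The bound in three variables, for the vanishing ideal of a point set avoiding the line
`x₂ = α x₀ + β x₁`. -/
theorem bound3 (Z : Set (Fin 3 → K)) (α β : K)
    (hℓ : ∀ p ∈ Z, p 2 - α * p 0 - β * p 1 ≠ 0) (d : ℕ)
    (f : MvPolynomial (Fin 3) K) (hfI : f ∈ vanIdeal Z) (hf : f.IsHomogeneous d) (hf0 : f ≠ 0)
    (M : ℕ) (e : Fin M → MvPolynomial (Fin 3) K) (heI : ∀ i, e i ∈ vanIdeal Z)
    (hind : IndepMod (vanIdeal Z) e) : M ≤ d + 1 := by
  classical
  -- saturation
  have hsat : ∀ g, ell α β * g ∈ vanIdeal Z → g ∈ vanIdeal Z := by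
    intro g hg
    rw [ell_eq] at hg
    refine vanIdeal_sat Z _ ?_ g hg
    intro p hp
    rw [Fin.sum_univ_three]
    have := hℓ p hp
    simp only [Matrix.cons_val_zero, Matrix.cons_val_one, Matrix.cons_val_two, Matrix.head_cons,
      Matrix.tail_cons]
    intro h0
    apply this
    linear_combination h0
  -- minimal degree
  have hex : ∃ a', ∃ f' ∈ vanIdeal Z, f'.IsHomogeneous a' ∧ f' ≠ 0 := ⟨d, f, hfI, hf, hf0⟩
  obtain ⟨f', hf'I, hf', hf'0⟩ := Nat.find_spec hex
  have hle : Nat.find hex ≤ d := Nat.find_min' hex ⟨f, hfI, hf, hf0⟩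
  have hmin : ∀ j < Nat.find hex, ∀ g ∈ vanIdeal Z, g.IsHomogeneous j → g = 0 := by
    intro j hj g hg hgj
    by_contra h0
    exact Nat.find_min hex hj ⟨g, hg, hgj, h0⟩
  generalize Nat.find hex = a at hf' hle hmin
  -- elements of `I` killed by `rho` lie in `ell * I`
  have hker : ∀ w ∈ vanIdeal Z, rho α β w = 0 → ∃ w' ∈ vanIdeal Z, w = ell α β * w' := by
    intro w hw hw0
    have h1 := sub_iota_rho_mem α β w
    rw [hw0, map_zero, sub_zero, Ideal.mem_span_singleton] at h1
    obtain ⟨w', rfl⟩ := h1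
    exact ⟨w', hsat w' hw, rfl⟩
  let J : Ideal (MvPolynomial (Fin 2) K) := (vanIdeal Z).map (rho α β)
  have hJmem : ∀ g, g ∈ J ↔ ∃ h ∈ vanIdeal Z, rho α β h = g := fun g =>
    Ideal.mem_map_iff_of_surjective _ (rho_surjective α β)
  have hJhom : IsHomIdeal J := by
    intro g hg j
    obtain ⟨h, hh, rfl⟩ := (hJmem g).mp hg
    rw [hc_rho]
    exact (hJmem _).mpr ⟨_, vanIdeal_isHom Z h hh j, rfl⟩
  -- `rho f'` is a nonzero form of degree `a` in `J`
  have hρf0 : rho α β f' ≠ 0 := by
    intro h0
    obtain ⟨w', hw', hfw⟩ := hker f' hf'I h0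
    -- take the component of degree `a`
    cases a with
    | zero =>
      apply hf'0
      have h1 : homogeneousComponent 0 f' = f' := homogeneousComponent_eq_self hf'
      rw [← h1, hfw, ell_eq, Finset.sum_mul, map_sum]
      refine Finset.sum_eq_zero fun t _ => ?_
      rw [mul_assoc, homogeneousComponent_C_mul, hc_zero_X_mul, mul_zero]
    | succ a' =>
      have h1 : homogeneousComponent (a' + 1) f' = f' := homogeneousComponent_eq_self hf'
      have h2 : homogeneousComponent (a' + 1) (ell α β * w') =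
          ell α β * homogeneousComponent a' w' := by
        rw [ell_eq, Finset.sum_mul, map_sum, Finset.sum_mul]
        refine Finset.sum_congr rfl fun t _ => ?_
        rw [mul_assoc, homogeneousComponent_C_mul, hc_succ_X_mul, mul_assoc]
      have h3 : homogeneousComponent a' w' = 0 :=
        hmin a' (Nat.lt_succ_self a') _ (vanIdeal_isHom Z w' hw' a')
          (homogeneousComponent_isHomogeneous a' w')
      apply hf'0
      rw [← h1, hfw, h2, h3, mul_zero]
  -- independence is preserved
  have hindJ : IndepMod J (fun i => rho α β (e i)) := by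
    intro c hc i
    obtain ⟨g, hgJ, hw⟩ := (mem_irrel_mul_iff J _).mp hc
    choose h hhI hhg using fun t => (hJmem (g t)).mp (hgJ t)
    -- `w = Σ c e - Σ X_t h_t ∈ I` is killed by `rho`
    have hwI : (∑ i, c i • e i) - ∑ t : Fin 2, X (Fin.castSucc t) * h t ∈ vanIdeal Z := by
      refine Ideal.sub_mem _ (Ideal.sum_mem _ fun i _ => ?_) (Ideal.sum_mem _ fun t _ => ?_)
      · rw [smul_eq_C_mul]; exact Ideal.mul_mem_left _ _ (heI i)
      · exact Ideal.mul_mem_left _ _ (hhI t)
    have hw0 : rho α β ((∑ i, c i • e i) - ∑ t : Fin 2, X (Fin.castSucc t) * h t) = 0 := by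
      rw [map_sub, map_sum, map_sum]
      simp only [map_smul, map_mul, hhg]
      rw [hw, Fin.sum_univ_two, Fin.sum_univ_two]
      have e0 : rho α β (X (Fin.castSucc (0 : Fin 2))) = X 0 := rho_X0 α β
      have e1 : rho α β (X (Fin.castSucc (1 : Fin 2))) = X 1 := rho_X1 α β
      rw [e0, e1, sub_self]
    obtain ⟨w', hw', hww⟩ := hker _ hwI hw0
    have hmem : ∑ i, c i • e i ∈ irrel (Fin 3) K * vanIdeal Z := by
      have : ∑ i, c i • e i = ell α β * w' + ∑ t : Fin 2, X (Fin.castSucc t) * h t := by
        rw [← hww]; ring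
      rw [this]
      refine Ideal.add_mem _ (Ideal.mul_mem_mul ?_ hw') (Ideal.sum_mem _ fun t _ =>
        Ideal.mul_mem_mul (X_mem_irrel _) (hhI t))
      rw [ell_eq]
      exact Ideal.sum_mem _ fun t _ => Ideal.mul_mem_left _ _ (X_mem_irrel t)
    exact hind c hmem i
  have := bound2 J hJhom a (rho α β f') ((hJmem _).mpr ⟨f', hf'I, rfl⟩)
    (rho_isHomogeneous α β hf') hρf0 M (fun i => rho α β (e i))
    (fun i => (hJmem _).mpr ⟨e i, heI i, rfl⟩) hindJ
  omega

end Slice

end Groth.Agent.Helper19.Dubreil
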