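import Groth.Agent.Lib.Helper19.Dubreil.Basic

set_option autoImplicit false

/-!
# The bound in two variables: a homogeneous ideal of `K[u,v]` containing a nonzero form of
degree `a` has at most `a + 1` independent elements modulo `m J`.
-/

namespace Groth.Agent.Helper19.Dubreil

open MvPolynomial Module

section TwoVar
variable {K : Type*} [Field K]

/-- Forms of degree `D` in two variables have dimension at most `D + 1`. -/
theorem finrank_hom2_le (D : ℕ) : finrank K (homogeneousSubmodule (Fin 2) K D) ≤ D + 1 := by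
  classical
  let f : homogeneousSubmodule (Fin 2) K D →ₗ[K] (Fin (D + 1) → K) :=
    { toFun := fun g i =>
        coeff (Finsupp.single 0 (i : ℕ) + Finsupp.single 1 (D - i)) (g : MvPolynomial (Fin 2) K)
      map_add' := by intros; ext; simp
      map_smul' := by intros; ext; simp }
  have hf : Function.Injective f := by
    rw [← LinearMap.ker_eq_bot, LinearMap.ker_eq_bot']
    intro g hg
    apply Subtype.ext
    rw [Submodule.coe_zero, MvPolynomial.eq_zero_iff]
    intro d
    by_cases hd : d.degree = D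
    · have hsum : d 0 + d 1 = D := by
        rw [← hd, Finsupp.degree_eq_sum, Fin.sum_univ_two]
      have h0 : d 0 < D + 1 := by omega
      have h1 := congrFun hg ⟨d 0, h0⟩
      have hd' : d = Finsupp.single 0 (d 0) + Finsupp.single 1 (D - d 0) := by
        ext i
        fin_cases i
        · simp
        · simp; omega
      rw [hd']
      exact h1
    · exact g.2.coeff_eq_zero hd
  calc finrank K (homogeneousSubmodule (Fin 2) K D)
      ≤ finrank K (Fin (D + 1) → K) := LinearMap.finrank_le_finrank_of_injective hf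
    _ = D + 1 := by simp

/-- Multiplication by a polynomial as a `K`-linear map. -/
noncomputable def mulL (x : MvPolynomial (Fin 2) K) :
    MvPolynomial (Fin 2) K →ₗ[K] MvPolynomial (Fin 2) K :=
  LinearMap.mulLeft K x

@[simp] theorem mulL_apply (x g : MvPolynomial (Fin 2) K) : mulL x g = x * g := rfl

instance hom_fd (j : ℕ) : FiniteDimensional K (homogeneousSubmodule (Fin 2) K j) :=
  Module.Finite.iff_fg.mpr (homogeneousSubmodule_fg _ _ j)

theorem growth (j : ℕ) (V : Submodule K (MvPolynomial (Fin 2) K))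
    (hV : V ≤ homogeneousSubmodule (Fin 2) K j) (hne : V ≠ ⊥) :
    finrank K V + 1 ≤ finrank K ↥(V.map (mulL (X 0)) ⊔ V.map (mulL (X 1))) := by
  haveI : FiniteDimensional K V := Submodule.finiteDimensional_of_le hV
  by_contra hlt
  push Not at hlt
  have hinj : Function.Injective (mulL (X 0 : MvPolynomial (Fin 2) K)) := by
    intro a b hab
    exact mul_left_cancel₀ (X_ne_zero 0) hab
  have hfr : finrank K ↥(V.map (mulL (X 0))) = finrank K V :=
    (LinearEquiv.finrank_eq (Submodule.equivMapOfInjective _ hinj V)).symm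
  have hle : V.map (mulL (X 0)) ≤ V.map (mulL (X 0)) ⊔ V.map (mulL (X 1)) := le_sup_left
  have heq : V.map (mulL (X 0)) = V.map (mulL (X 0)) ⊔ V.map (mulL (X 1)) :=
    Submodule.eq_of_le_of_finrank_le hle (by omega)
  have hsub : V.map (mulL (X 1)) ≤ V.map (mulL (X 0)) :=
    le_of_le_of_eq le_sup_right heq.symm
  have hdiv : ∀ n : ℕ, ∀ g ∈ V, (X 0 : MvPolynomial (Fin 2) K) ^ n ∣ g := by
    intro n
    induction n with
    | zero => intro g _; simp
    | succ n ih =>
      intro g hg
      have hmem : X 1 * g ∈ V.map (mulL (X 0)) := hsub ⟨g, hg, rfl⟩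
      obtain ⟨g', hg', hgg⟩ := hmem
      have h1 : (X 0 : MvPolynomial (Fin 2) K) ^ (n + 1) ∣ X 1 * g := by
        rw [← hgg, mulL_apply, pow_succ']
        exact mul_dvd_mul_left _ (ih g' hg')
      refine (X_prime (i := (0 : Fin 2))).pow_dvd_of_dvd_mul_left (n + 1) ?_ h1
      rw [X_dvd_X]
      decide
  apply hne
  rw [eq_bot_iff]
  intro g hg
  rw [Submodule.mem_bot]
  by_contra hg0
  obtain ⟨r, hr⟩ := hdiv (j + 1) g hg
  have hr0 : r ≠ 0 := by
    rintro rfl
    rw [mul_zero] at hr
    exact hg0 hr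
  have hdeg : g.totalDegree = j := (hV hg).totalDegree hg0
  rw [hr, totalDegree_mul_of_isDomain (pow_ne_zero _ (X_ne_zero 0)) hr0, totalDegree_X_pow] at hdeg
  omega

theorem bound2_min (J : Ideal (MvPolynomial (Fin 2) K)) (hJ : IsHomIdeal J) (a : ℕ)
    (f : MvPolynomial (Fin 2) K) (hfJ : f ∈ J) (hf : f.IsHomogeneous a) (hf0 : f ≠ 0)
    (hmin : ∀ j < a, ∀ g ∈ J, g.IsHomogeneous j → g = 0)
    (M : ℕ) (e : Fin M → MvPolynomial (Fin 2) K) (heJ : ∀ i, e i ∈ J) (hind : IndepMod J e) :
    M ≤ a + 1 := by
  classical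
  let Jh : ℕ → Submodule K (MvPolynomial (Fin 2) K) :=
    fun j => J.restrictScalars K ⊓ homogeneousSubmodule (Fin 2) K j
  let N : Submodule K (MvPolynomial (Fin 2) K) := (irrel (Fin 2) K * J).restrictScalars K
  let q : MvPolynomial (Fin 2) K →ₗ[K] MvPolynomial (Fin 2) K ⧸ N := N.mkQ
  haveI hJfd : ∀ j, FiniteDimensional K (Jh j) := fun j => Submodule.finiteDimensional_inf_right _ _
  let W : ℕ → Submodule K (MvPolynomial (Fin 2) K ⧸ N) :=
    fun D => (Finset.range (D + 1)).sup fun j => (Jh j).map q
  -- `Jh D ≠ ⊥` for `D ≥ a`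
  have hne : ∀ D, a ≤ D → Jh D ≠ ⊥ := by
    intro D hD hbot
    have hmem : X 0 ^ (D - a) * f ∈ Jh D := by
      refine ⟨J.mul_mem_left _ hfJ, ?_⟩
      have := (isHomogeneous_X_pow (R := K) (0 : Fin 2) (D - a)).mul hf
      rwa [Nat.sub_add_cancel hD] at this
    rw [hbot, Submodule.mem_bot] at hmem
    exact hf0 ((mul_eq_zero.mp hmem).resolve_left (pow_ne_zero _ (X_ne_zero 0)))
  -- the step inequality
  have hstep : ∀ D, a ≤ D →
      finrank K ↥((Jh (D + 1)).map q) + finrank K (Jh D) + 1 ≤ finrank K (Jh (D + 1)) := by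
    intro D hD
    have hXP : (Jh D).map (mulL (X 0)) ⊔ (Jh D).map (mulL (X 1)) ≤ Jh (D + 1) := by
      refine sup_le ?_ ?_
      · rintro _ ⟨g, hg, rfl⟩
        refine ⟨J.mul_mem_left _ hg.1, ?_⟩
        have := (isHomogeneous_X K (0 : Fin 2)).mul hg.2
        rwa [add_comm] at this
      · rintro _ ⟨g, hg, rfl⟩
        refine ⟨J.mul_mem_left _ hg.1, ?_⟩
        have := (isHomogeneous_X K (1 : Fin 2)).mul hg.2
        rwa [add_comm] at this
    have hXker : (Jh D).map (mulL (X 0)) ⊔ (Jh D).map (mulL (X 1)) ≤ LinearMap.ker q := by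
      refine sup_le ?_ ?_
      · rintro _ ⟨g, hg, rfl⟩
        rw [LinearMap.mem_ker]
        exact (Submodule.Quotient.mk_eq_zero N).mpr (Ideal.mul_mem_mul (X_mem_irrel 0) hg.1)
      · rintro _ ⟨g, hg, rfl⟩
        rw [LinearMap.mem_ker]
        exact (Submodule.Quotient.mk_eq_zero N).mpr (Ideal.mul_mem_mul (X_mem_irrel 1) hg.1)
    have hrn := LinearMap.finrank_range_add_finrank_ker (q.domRestrict (Jh (D + 1)))
    rw [LinearMap.range_domRestrict, LinearMap.ker_domRestrict] at hrn
    have h1 : finrank K ↥((Jh D).map (mulL (X 0)) ⊔ (Jh D).map (mulL (X 1))) ≤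
        finrank K ↥((LinearMap.ker q).comap (Jh (D + 1)).subtype) := by
      have e1 := (Submodule.comapSubtypeEquivOfLe hXP).finrank_eq
      rw [← e1]
      exact Submodule.finrank_mono (Submodule.comap_mono hXker)
    have h2 := growth D (Jh D) inf_le_right (hne D hD)
    omega
  -- the main induction
  have hmain : ∀ D, a ≤ D → finrank K (W D) + D ≤ finrank K (Jh D) + a := by
    intro D hD
    induction D, hD using Nat.le_induction with
    | base =>
      have hWa : W a ≤ (Jh a).map q := by
        refine Finset.sup_le fun j hj => ?_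
        rw [Finset.mem_range] at hj
        rcases Nat.lt_succ_iff_lt_or_eq.mp hj with hlt | rfl
        · have hb : Jh j = ⊥ := by
            rw [eq_bot_iff]
            intro g hg
            exact hmin j hlt g hg.1 hg.2
          rw [hb, Submodule.map_bot]
          exact bot_le
        · exact le_rfl
      have h1 := Submodule.finrank_mono hWa
      have h2 := Submodule.finrank_map_le q (Jh a)
      omega
    | succ D hD ih =>
      have hW : W (D + 1) = W D ⊔ (Jh (D + 1)).map q := by
        show (Finset.range (D + 1 + 1)).sup _ = _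
        rw [Finset.range_add_one (n := D + 1), Finset.sup_insert, sup_comm]
      have h1 := Submodule.finrank_add_le_finrank_add_finrank (W D) ((Jh (D + 1)).map q)
      rw [← hW] at h1
      have h2 := hstep D hD
      omega
  -- conclusion
  let D0 := max a (Finset.univ.sup fun i => (e i).totalDegree)
  have hmemW : ∀ i, q (e i) ∈ W D0 := by
    intro i
    rw [← sum_homogeneousComponent (e i), map_sum]
    refine Submodule.sum_mem _ fun j hj => ?_
    have hjD : j ∈ Finset.range (D0 + 1) := by
      rw [Finset.mem_range] at hj ⊢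
      have : (e i).totalDegree ≤ D0 :=
        le_trans (Finset.le_sup (f := fun i => (e i).totalDegree) (Finset.mem_univ i))
          (le_max_right _ _)
      omega
    exact (Finset.le_sup (f := fun j => (Jh j).map q) hjD)
      (Submodule.mem_map_of_mem ⟨hJ _ (heJ i) j, homogeneousComponent_mem j _⟩)
  have hli : LinearIndependent K (fun i => (⟨q (e i), hmemW i⟩ : W D0)) := by
    rw [Fintype.linearIndependent_iff]
    intro c hc i
    apply hind c _ i
    have h0 : q (∑ i, c i • e i) = 0 := by
      rw [map_sum]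
      simp only [map_smul]
      have := congrArg Subtype.val hc
      simpa using this
    exact (Submodule.Quotient.mk_eq_zero N).mp h0
  have hcard := hli.fintype_card_le_finrank
  rw [Fintype.card_fin] at hcard
  have h1 := hmain D0 (le_max_left _ _)
  have h2 : finrank K (Jh D0) ≤ D0 + 1 :=
    le_trans (Submodule.finrank_mono inf_le_right) (finrank_hom2_le D0)
  omega

theorem bound2 (J : Ideal (MvPolynomial (Fin 2) K)) (hJ : IsHomIdeal J) (a : ℕ)
    (f : MvPolynomial (Fin 2) K) (hfJ : f ∈ J) (hf : f.IsHomogeneous a) (hf0 : f ≠ 0)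
    (M : ℕ) (e : Fin M → MvPolynomial (Fin 2) K) (heJ : ∀ i, e i ∈ J) (hind : IndepMod J e) :
    M ≤ a + 1 := by
  classical
  have hex : ∃ a', ∃ f' ∈ J, f'.IsHomogeneous a' ∧ f' ≠ 0 := ⟨a, f, hfJ, hf, hf0⟩
  obtain ⟨f', hf'J, hf', hf'0⟩ := Nat.find_spec hex
  have hle : Nat.find hex ≤ a := Nat.find_min' hex ⟨f, hfJ, hf, hf0⟩
  have hmin : ∀ j < Nat.find hex, ∀ g ∈ J, g.IsHomogeneous j → g = 0 := by
    intro j hj g hg hgj
    by_contra h0
    exact Nat.find_min hex hj ⟨g, hg, hgj, h0⟩
  have := bound2_min J hJ _ f' hf'J hf' hf'0 hmin M e heJ hind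
  omega

end TwoVar

end Groth.Agent.Helper19.Dubreil
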